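import Cfsg.Agent.ZJInversion.Basic
import Cfsg.Agent.PLocal.ZJTheorem
import Cfsg.Agent.OddOrder.ZJ.Replacement
import Cfsg.Agent.UniqueMaximal.Basic

/-!
Glauberman: for an odd prime `p`, if no nontrivial `p`-element is inverted inside the normalizer of
`Z(J(T))`, `T` a Sylow `p`-subgroup, then none is inverted in the whole group.
-/

set_option autoImplicit false
open scoped commutatorElement Pointwise

namespace CfsgLib.ZJInversion

open Cfsg Subgroup PLocal

universe u

variable {G : Type u} [Group G] [Finite G] {p : ℕ} [Fact p.Prime]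

theorem sup_sylow_eq_top {P : Type*} [Group P] [Finite P] (M : Subgroup P) [M.Normal]
    (hM : ∀ g : P, ∃ k : ℕ, g ^ p ^ k ∈ M) (S : Sylow p P) : M ⊔ (S : Subgroup P) = ⊤ := by
  rw [← index_eq_one]
  have h1 : IsPGroup p (P ⧸ M) := by
    intro q
    obtain ⟨g, rfl⟩ := QuotientGroup.mk_surjective q
    obtain ⟨k, hk⟩ := hM g
    refine ⟨k, ?_⟩
    rw [← QuotientGroup.mk_pow]
    exact (QuotientGroup.eq_one_iff _).mpr hk
  obtain ⟨k, hk⟩ := IsPGroup.iff_card.mp h1
  have hd1 : (M ⊔ (S : Subgroup P)).index ∣ p ^ k := by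
    rw [← hk, ← index_eq_card]; exact index_dvd_of_le le_sup_left
  exact Nat.eq_one_of_dvd_coprimes
    (Nat.Coprime.pow_left k ((Fact.out : p.Prime).coprime_iff_not_dvd.mpr S.not_dvd_index)) hd1
    (index_dvd_of_le le_sup_right)

/-- Frattini argument over the preimage of `O_p(G / C(K))`. -/
theorem centralizer_sup_normalizer_eq_top (T : Sylow p G) (K : Subgroup G) [K.Normal] :
    centralizer (K : Set G) ⊔ normalizer (((T : Subgroup G) ⊓ coreMod p K : Subgroup G) : Set G) =
      ⊤ := by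
  obtain ⟨Q, hQ⟩ := UniqueMaximal.exists_sylow_map_eq_inf (coreMod p K) T
  have hfr := Sylow.normalizer_sup_eq_top Q
  rw [hQ] at hfr
  refine eq_top_iff.mpr (hfr.symm.le.trans (sup_le le_sup_right ?_))
  haveI : ((centralizer (K : Set G)).subgroupOf (coreMod p K)).Normal :=
    Subgroup.Normal.comap inferInstance _
  have h1 := sup_sylow_eq_top ((centralizer (K : Set G)).subgroupOf (coreMod p K)) (fun g => by
    obtain ⟨k, hk⟩ := exists_pow_mem_of_mem_coreMod g.2
    exact ⟨k, mem_subgroupOf.mpr (by simpa using hk)⟩) Q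
  have h2 := congrArg (Subgroup.map (coreMod p K).subtype) h1
  rw [Subgroup.map_sup, hQ, ← MonoidHom.range_eq_map, range_subtype] at h2
  exact h2.symm.le.trans (sup_le_sup (map_comap_le _ _) le_normalizer)

/-! ### Abelian subgroups of largest order in Sylow subgroups -/

theorem exists_conj_sylow (T₁ T₂ : Sylow p G) :
    ∃ g : G, (T₁ : Subgroup G).map (MulAut.conj g).toMonoidHom = T₂ := by
  obtain ⟨g, hg⟩ := MulAction.exists_smul_eq G T₁ T₂
  exact ⟨g, by rw [← hg]; rfl⟩

theorem card_maxAbIn_eq {T₁ T₂ : Sylow p G} {A B : Subgroup G}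
    (hA : A ∈ maxAbIn (T₁ : Subgroup G)) (hB : B ∈ maxAbIn (T₂ : Subgroup G)) :
    Nat.card A = Nat.card B := by
  obtain ⟨g, hg⟩ := exists_conj_sylow T₁ T₂
  have h1 : A.map (MulAut.conj g).toMonoidHom ∈ maxAbIn (T₂ : Subgroup G) := by
    rw [← hg, map_maxAbIn (f := (MulAut.conj g).toMonoidHom) (MulAut.conj g).injective]
    exact Set.mem_image_of_mem _ hA
  rw [← card_map_of_injective (K := A) (f := (MulAut.conj g).toMonoidHom) (MulAut.conj g).injective]
  exact le_antisymm (hB.2.2 _ h1.1 h1.2.1) (h1.2.2 _ hB.1 hB.2.1)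

theorem mem_maxAbIn_of_le {T₁ T₂ : Sylow p G} {A : Subgroup G}
    (hA : A ∈ maxAbIn (T₁ : Subgroup G)) (h : A ≤ T₂) : A ∈ maxAbIn (T₂ : Subgroup G) := by
  obtain ⟨B, hB⟩ := maxAbIn_nonempty (T₂ : Subgroup G)
  exact ⟨h, hA.2.1, fun C hC hCc => (hB.2.2 C hC hCc).trans (card_maxAbIn_eq hA hB).ge⟩

theorem thompsonSubgroupAOf_eq_of_sylow {T₁ T₂ : Sylow p G}
    (h : thompsonSubgroupAOf (T₁ : Subgroup G) ≤ T₂) :
    thompsonSubgroupAOf (T₂ : Subgroup G) = thompsonSubgroupAOf (T₁ : Subgroup G) := by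
  obtain ⟨g, hg⟩ := exists_conj_sylow T₁ T₂
  refine (eq_of_le_of_card_ge ?_ ?_).symm
  · rw [thompsonSubgroupAOf_eq (T₁ : Subgroup G)]
    exact sSup_le fun A hA => le_thompsonSubgroupAOf
      (mem_maxAbIn_of_le hA ((le_thompsonSubgroupAOf hA).trans h))
  · rw [← hg, ← map_thompsonSubgroupAOf (f := (MulAut.conj g).toMonoidHom) (MulAut.conj g).injective,
      card_map_of_injective (MulAut.conj g).injective]

omit [Finite G] in
theorem centerThompsonAOf_comm (T : Subgroup G) : IsMulCommutative (centerThompsonAOf T) :=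
  le_centralizer_iff_isMulCommutative.mp (inf_le_right.trans (centralizer_le inf_le_left))

/-- A commutative subgroup of `T` commuting with a largest abelian subgroup lies in it. -/
theorem le_of_mem_maxAbIn {T W A : Subgroup G} (hA : A ∈ maxAbIn T) (hW : IsMulCommutative W)
    (hWT : W ≤ T) (hc : W ≤ centralizer (A : Set G)) : W ≤ A :=
  le_sup_right.trans (eq_of_le_of_card_ge (le_sup_left : A ≤ A ⊔ W) (hA.2.2 _ (sup_le hA.1 hWT)
    (isMulCommutative_sup hA.2.1 hW (le_centralizer_iff.mp hc)))).ge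

theorem centerThompsonAOf_le_of_mem {T A : Subgroup G} (hA : A ∈ maxAbIn T) :
    centerThompsonAOf T ≤ A :=
  le_of_mem_maxAbIn hA (centerThompsonAOf_comm T) (centerThompsonAOf_le T)
    (inf_le_right.trans (centralizer_le (le_thompsonSubgroupAOf hA)))

/-- If `T' ≤ T` holds a largest abelian subgroup of `T` and `Z(J(T)) ≤ T'`, then
`Z(J(T)) ≤ Z(J(T'))`. -/
theorem centerThompsonAOf_le_of_le {T' T A : Subgroup G} (hT : T' ≤ T) (hA : A ∈ maxAbIn T)
    (hAT : A ≤ T') : centerThompsonAOf T ≤ centerThompsonAOf T' := by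
  have hmem : ∀ B ∈ maxAbIn T', B ∈ maxAbIn T := fun B hB => by
    rw [maxAbIn_of_le hT hA hAT] at hB; exact hB.1
  have hA' : A ∈ maxAbIn T' := by rw [maxAbIn_of_le hT hA hAT]; exact ⟨hA, hAT⟩
  have hJ : thompsonSubgroupAOf T' ≤ thompsonSubgroupAOf T := by
    rw [thompsonSubgroupAOf_eq T']
    exact sSup_le fun B hB => le_thompsonSubgroupAOf (hmem B hB)
  exact le_inf ((centerThompsonAOf_le_of_mem hA).trans (le_thompsonSubgroupAOf hA'))
    (inf_le_right.trans (centralizer_le hJ))

theorem isPGroup_centerThompsonAOf {T : Subgroup G} (hT : IsPGroup p T) :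
    IsPGroup p (centerThompsonAOf T) :=
  hT.to_le (centerThompsonAOf_le T)

/-! ### The minimal counterexample -/

section

variable (hN : ∀ S : Sylow p G,
  InvFree p (normalizer (centerThompsonAOf (S : Subgroup G) : Set G)))
variable (hsub : ∀ H : Subgroup G, H ≠ ⊤ → ∀ S : Sylow p H,
  InvFree p (H ⊓ normalizer
    (centerThompsonAOf ((S : Subgroup H).map H.subtype) : Set G)) → InvFree p H)
variable (hG : ¬ InvFree p (⊤ : Subgroup G))

include hN hsub hG in
theorem exists_normal_zj {D H : Subgroup G} (hD : IsPGroup p D) (hDH : D ≤ H) (hH : H ≠ ⊤)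
    (hHn : ¬ InvFree p H) :
    ∃ T : Subgroup G, D ≤ T ∧ IsPGroup p T ∧
      normalizer (centerThompsonAOf T : Set G) = ⊤ := by
  classical
  let 𝒮 : Set (Subgroup G) := {T | D ≤ T ∧ ∃ K : Subgroup G, K ≠ ⊤ ∧ ¬ InvFree p K ∧
    ∃ S : Sylow p K, (S : Subgroup K).map K.subtype = T}
  have hne : 𝒮.Nonempty := by
    obtain ⟨S, hS⟩ := (hD.comap_subtype (K := H)).exists_le_sylow
    exact ⟨_, (subgroupOf_map_subtype D H).ge.trans' (le_inf le_rfl hDH) |>.trans (map_mono hS),
      H, hH, hHn, S, rfl⟩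
  obtain ⟨T, ⟨hDT, K, hK, hKn, S, hST⟩, hmax⟩ :=
    Set.Finite.exists_maximalFor (fun T : Subgroup G => Nat.card T) 𝒮 (Set.toFinite _) hne
  have hTp : IsPGroup p T := hST ▸ S.2.map _
  refine ⟨T, hDT, hTp, ?_⟩
  by_contra htop
  set N := normalizer (centerThompsonAOf T : Set G) with hNdef
  have hNn : ¬ InvFree p N := fun h => hKn (hsub K hK S (by
    rw [hST]; exact h.mono inf_le_right))
  obtain ⟨T₁, hT₁⟩ := hTp.exists_le_sylow
  rcases hT₁.eq_or_lt with he | hlt
  · exact hNn (by rw [hNdef, he]; exact hN T₁)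
  have hgrow := CfsgLib.Small.lt_inf_normalizer_of_pGroup T₁.2 hlt
  have hleN : (T₁ : Subgroup G) ⊓ normalizer (T : Set G) ≤ N :=
    inf_le_right.trans (normalizer_le_normalizer_centerThompsonAOf T)
  obtain ⟨S', hS'⟩ :=
    ((T₁.2.to_le (inf_le_left (b := normalizer (T : Set G)))).comap_subtype (K := N)).exists_le_sylow
  have hle : (T₁ : Subgroup G) ⊓ normalizer (T : Set G) ≤ (S' : Subgroup N).map N.subtype :=
    fun x hx => ⟨⟨x, hleN hx⟩, hS' hx, rfl⟩
  have hlt' : T < (S' : Subgroup N).map N.subtype := hgrow.trans_le hle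
  have hmem : (S' : Subgroup N).map N.subtype ∈ 𝒮 :=
    ⟨hDT.trans hlt'.le, N, htop, hNn, S', rfl⟩
  have hcard : Nat.card T < Nat.card ((S' : Subgroup N).map N.subtype) :=
    Set.ncard_lt_ncard (SetLike.coe_ssubset_coe.mpr hlt') (Set.toFinite _)
  exact absurd (hmax hmem hcard.le) (not_le.mpr hcard)

include hN hsub hG in
theorem invFree_of_thompson_le {H : Subgroup G} (hH : H ≠ ⊤) (T₁ : Sylow p G)
    (hJ : thompsonSubgroupAOf (T₁ : Subgroup G) ≤ H) : InvFree p H := by
  by_contra hHn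
  obtain ⟨T, hJT, hTp, htop⟩ := exists_normal_zj hN hsub hG
    (T₁.2.to_le (thompsonSubgroupAOf_le _)) hJ hH hHn
  obtain ⟨T₂, hT₂⟩ := hTp.exists_le_sylow
  have h12 := thompsonSubgroupAOf_eq_of_sylow (hJT.trans hT₂)
  have h2 : thompsonSubgroupAOf T = thompsonSubgroupAOf (T₂ : Subgroup G) :=
    thompsonSubgroupAOf_eq_of_le hT₂ (h12 ▸ hJT)
  have hz : centerThompsonAOf T = centerThompsonAOf (T₂ : Subgroup G) := by
    rw [centerThompsonAOf, centerThompsonAOf, h2]
  exact hG (htop ▸ hz ▸ hN T₂)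

variable (hp : p ≠ 2)
variable (hquot : ∀ R : Subgroup G, ∀ _ : R.Normal, R ≠ ⊥ → ∀ S : Sylow p (G ⧸ R),
  InvFree p (normalizer (centerThompsonAOf (S : Subgroup (G ⧸ R)) : Set (G ⧸ R))) →
    InvFree p (⊤ : Subgroup (G ⧸ R)))

omit [Finite G] in
theorem zpowers_p_group {x : G} {k : ℕ} (hx : x ^ p ^ k = 1) : IsPGroup p (Subgroup.zpowers x) := by
  rintro ⟨y, hy⟩
  obtain ⟨i, rfl⟩ := mem_zpowers_iff.mp hy
  refine ⟨k, Subtype.ext ?_⟩
  simp only [SubmonoidClass.coe_pow, OneMemClass.coe_one]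
  rw [← zpow_natCast, ← zpow_mul, mul_comm, zpow_mul, zpow_natCast, hx, one_zpow]

include hN hsub hG hp hquot in
theorem exists_inverted : ∃ x n : G, x ∈ pCore p G ∧ x ≠ 1 ∧ (∃ k, x ^ p ^ k = 1) ∧
    (∃ j, n ^ 2 ^ j = 1) ∧ n * x * n⁻¹ = x⁻¹ := by
  classical
  have hG' := hG
  simp only [InvFree, not_forall] at hG'
  obtain ⟨x, -, g, -, ⟨k, hk⟩, hgx, hx1⟩ := hG'
  set R := pCore p G with hR
  have hRp : IsPGroup p R := isPGroup_pCore p G
  have hRne : R ≠ ⊥ := by
    intro hbot
    by_cases htop : normalizer (Subgroup.zpowers x : Set G) = ⊤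
    · haveI := normalizer_eq_top_iff.mp htop
      exact hx1 (mem_bot.mp (hbot ▸ PLocal.le_pCore (zpowers_p_group hk) (mem_zpowers x)))
    have hgN : g ∈ normalizer (Subgroup.zpowers x : Set G) := by
      rw [mem_normalizer_iff_map_conj_eq, MonoidHom.map_zpowers]
      show Subgroup.zpowers (g * x * g⁻¹) = _
      rw [hgx, zpowers_inv]
    have hHn : ¬ InvFree p (normalizer (Subgroup.zpowers x : Set G)) := fun h =>
      hx1 (h x (le_normalizer (mem_zpowers x)) g hgN ⟨k, hk⟩ hgx)
    obtain ⟨T, hxT, hTp, hT⟩ := exists_normal_zj hN hsub hG (zpowers_p_group hk) le_normalizer htop hHn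
    haveI := normalizer_eq_top_iff.mp hT
    have hTne : T ≠ ⊥ := fun h => hx1 (mem_bot.mp (h ▸ hxT (mem_zpowers x)))
    exact centerThompsonAOf_ne_bot hTp hTne
      (le_bot_iff.mp (hbot ▸ PLocal.le_pCore (isPGroup_centerThompsonAOf hTp)))
  have hquotfree : InvFree p (⊤ : Subgroup (G ⧸ R)) := by
    obtain ⟨T⟩ : Nonempty (Sylow p G) := inferInstance
    set π := QuotientGroup.mk' R with hπ
    let S : Sylow p (G ⧸ R) := T.mapSurjective (QuotientGroup.mk'_surjective R)
    have hS : (S : Subgroup (G ⧸ R)) = (T : Subgroup G).map π := rfl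
    refine hquot R inferInstance hRne S ?_
    set W := centerThompsonAOf (S : Subgroup (G ⧸ R)) with hW
    have hker : IsPGroup p π.ker := by rw [QuotientGroup.ker_mk']; exact hRp
    set N₁ := (normalizer (W : Set (G ⧸ R))).comap π with hN₁
    have hTN : (T : Subgroup G) ≤ N₁ := map_le_iff_le_comap.mp
      (hS ▸ le_normalizer.trans (normalizer_le_normalizer_centerThompsonAOf _))
    have hne : N₁ ≠ ⊤ := by
      intro htop
      have hWn : normalizer (W : Set (G ⧸ R)) = ⊤ := by
        rw [← map_comap_eq_self_of_surjective (QuotientGroup.mk'_surjective R)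
          (normalizer (W : Set (G ⧸ R))), ← hN₁, htop,
          map_top_of_surjective _ (QuotientGroup.mk'_surjective R)]
      haveI := normalizer_eq_top_iff.mp hWn
      haveI : (W.comap π).Normal := Subgroup.Normal.comap inferInstance _
      have hWR : W.comap π ≤ R := PLocal.le_pCore
        ((isPGroup_centerThompsonAOf S.2).comap_of_ker_isPGroup π hker)
      have hW0 : W = ⊥ := by
        refine le_bot_iff.mp fun w hw => ?_
        obtain ⟨w, rfl⟩ := QuotientGroup.mk'_surjective R w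
        exact mem_bot.mpr ((QuotientGroup.eq_one_iff w).mpr (hWR hw))
      have hS0 : (S : Subgroup (G ⧸ R)) = ⊥ := by
        by_contra h
        exact centerThompsonAOf_ne_bot S.2 h hW0
      rw [hS, Subgroup.map_eq_bot_iff, QuotientGroup.ker_mk'] at hS0
      have hTR : (T : Subgroup G) = R := le_antisymm hS0 (pCore_le_sylow T)
      have h1 : normalizer (centerThompsonAOf (T : Subgroup G) : Set G) = ⊤ :=
        eq_top_iff.mpr ((normalizer_eq_top R).ge.trans
          (hTR ▸ normalizer_le_normalizer_centerThompsonAOf (T : Subgroup G)))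
      exact hG (h1 ▸ hN T)
    have := invFree_map hp π (invFree_of_thompson_le hN hsub hG hne T
      ((thompsonSubgroupAOf_le _).trans hTN))
    rwa [map_comap_eq_self_of_surjective (QuotientGroup.mk'_surjective R)] at this
  have hxR : x ∈ R := by
    refine (QuotientGroup.eq_one_iff x).mp ?_
    exact hquotfree (QuotientGroup.mk' R x) (mem_top _) (QuotientGroup.mk' R g) (mem_top _)
      ⟨k, by rw [← map_pow, hk, map_one]⟩ (by rw [← map_inv, ← map_inv, ← map_mul, ← map_mul, hgx])
  obtain ⟨a, m, hm, ham⟩ := Nat.exists_eq_pow_mul_and_not_dvd (orderOf_pos g).ne' 2 (by norm_num)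
  exact ⟨x, g ^ m, hxR, hx1, ⟨k, hk⟩, ⟨a, by rw [← pow_mul, mul_comm, ← ham, pow_orderOf_eq_one]⟩,
    pow_odd_inverts hgx (Nat.odd_iff.mpr (by omega))⟩

include hp in
/-- The centralizer, modulo a chief factor, of a quadratic `p`-element moving it. -/
theorem exists_bad {X Y : Subgroup G} [X.Normal] [Y.Normal] (hXY : IsChiefFactor X Y)
    (hX : IsPGroup p X) {a : G} (hak : ∃ k : ℕ, a ^ p ^ k = 1)
    (hq : ∀ x ∈ X, ⁅⁅x, a⁆, a⁆ ∈ Y) (ha : a ∉ factorCent X Y) :
    ∃ H : Subgroup G, H ≠ ⊤ ∧ ¬ InvFree p H ∧ pCore p G ≤ H ∧ ∀ d : G, Commute d a → d ∈ H := by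
  set C := factorCent X Y with hC
  set σ := QuotientGroup.mk' C with hσ
  refine ⟨(centralizer {σ a}).comap σ, ?_, ?_, ?_, fun d hd => ?_⟩
  · intro htop
    have hcen : σ a ∈ center (G ⧸ C) := mem_center_iff.mpr fun q => by
      obtain ⟨g, rfl⟩ := QuotientGroup.mk'_surjective C q
      exact (mem_centralizer_singleton_iff.mp (htop.ge (mem_top g) : g ∈ _)).symm.symm
    haveI : (Subgroup.zpowers (σ a)).Normal := ⟨fun y hy q => by
      have hyc : y ∈ center (G ⧸ C) := (zpowers_le.mpr hcen) hy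
      rw [mem_center_iff.mp hyc q, mul_assoc, mul_inv_cancel, mul_one]; exact hy⟩
    obtain ⟨k, hk⟩ := hak
    refine ha (le_factorCent_of_forall_pow hXY hX ((Subgroup.zpowers (σ a)).comap σ)
      (fun g hg => ?_) (mem_zpowers (σ a)))
    obtain ⟨i, hi⟩ := mem_zpowers_iff.mp (show σ g ∈ Subgroup.zpowers (σ a) from hg)
    refine ⟨k, (QuotientGroup.eq_one_iff _).mp ?_⟩
    show σ (g ^ p ^ k) = 1
    rw [map_pow, ← hi, ← zpow_natCast, ← zpow_mul, mul_comm, zpow_mul, zpow_natCast, ← map_pow, hk,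
      map_one, one_zpow]
  · intro hfree
    obtain ⟨t, htk, htC, hta⟩ := exists_two_element hp hXY hX hq ha
    have hle : C ≤ (centralizer {σ a}).comap σ := fun c hc => by
      rw [mem_comap, show σ c = 1 from (QuotientGroup.eq_one_iff c).mpr hc]; exact one_mem _
    have hXC : X ≤ C := le_factorCent_of_forall_pow hXY hX X fun x hx => by
      obtain ⟨k, hk⟩ := exists_pow_prime_pow hX hx
      exact ⟨k, hk ▸ one_mem _⟩
    have htH : t ∈ (centralizer {σ a}).comap σ := by
      rw [mem_comap, mem_centralizer_singleton_iff]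
      refine commutatorElement_eq_one_iff_commute.mp ?_
      rw [← map_commutatorElement]
      exact (QuotientGroup.eq_one_iff _).mpr hta
    have htX := hfree.commute_of_two_element hX (hXC.trans hle) htH htk
      (by rw [normalizer_eq_top]; exact mem_top t)
    refine htC (mem_factorCent.mpr fun x hx => ?_)
    rw [commutatorElement_eq_one_iff_commute.mpr (mem_centralizer_iff.mp htX x hx).symm]
    exact one_mem _
  · intro r hr
    have hrC : r ∈ C := le_factorCent_of_forall_pow hXY hX (pCore p G) (fun x hx => by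
      obtain ⟨k, hk⟩ := exists_pow_prime_pow (isPGroup_pCore p G) hx
      exact ⟨k, hk ▸ one_mem _⟩) hr
    rw [mem_comap, show σ r = 1 from (QuotientGroup.eq_one_iff r).mpr hrC]; exact one_mem _
  · rw [mem_comap, mem_centralizer_singleton_iff]
    exact (hd.map σ).eq

include hN hsub hG hp hquot in
theorem centerThompsonAOf_le_pCore (T : Sylow p G) :
    centerThompsonAOf (T : Subgroup G) ≤ pCore p G := by
  set R := pCore p G with hR
  have hRp : IsPGroup p R := isPGroup_pCore p G
  set Z := centerThompsonAOf (T : Subgroup G) with hZ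
  by_cases hZP : Z ≤ coreMod p R
  · set T₀ := (T : Subgroup G) ⊓ coreMod p R with hT₀
    have hZT₀ : Z ≤ T₀ := le_inf (centerThompsonAOf_le _) hZP
    have hRT₀ : R ≤ T₀ := le_inf (pCore_le_sylow T) (le_coreMod R fun g hg => by
      obtain ⟨k, hk⟩ := exists_pow_prime_pow hRp hg
      exact ⟨k, hk ▸ one_mem _⟩)
    by_cases htop : normalizer (T₀ : Set G) = ⊤
    · haveI := normalizer_eq_top_iff.mp htop
      exact hZT₀.trans (PLocal.le_pCore (T.2.to_le inf_le_left))
    exfalso
    have hfree := invFree_of_thompson_le hN hsub hG htop T ((thompsonSubgroupAOf_le _).trans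
      (fun t ht => by
        refine LocalStructure.mem_normalizer_of_forall fun y hy => ?_
        exact ⟨(T : Subgroup G).mul_mem ((T : Subgroup G).mul_mem ht hy.1) ((T : Subgroup G).inv_mem ht),
          Subgroup.Normal.conj_mem inferInstance _ hy.2 _⟩))
    obtain ⟨x, n, hxR, hx1, hxk, -, hnx⟩ := exists_inverted hN hsub hG hp hquot
    have htop' := centralizer_sup_normalizer_eq_top T R
    obtain ⟨c, hc, n', hn', rfl⟩ :=
      mem_sup_of_normal_left.mp (htop'.ge (mem_top n))
    refine hx1 (hfree x (le_normalizer (hRT₀ hxR)) n' hn' hxk ?_)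
    have hcx := mem_centralizer_iff.mp ((centralizer (R : Set G)).inv_mem hc) x⁻¹ (inv_mem hxR)
    calc n' * x * n'⁻¹ = c⁻¹ * (c * n' * x * (c * n')⁻¹) * c := by group
      _ = c⁻¹ * x⁻¹ * c := by rw [hnx]
      _ = x⁻¹ := by rw [← hcx, inv_mul_cancel_right]
  exfalso
  obtain ⟨z, hzZ, hzP⟩ := SetLike.not_le_iff_exists.mp hZP
  obtain ⟨X, Y, hXn, hYn, hXY, hXR, hmov⟩ := exists_moved_factor (Nat.card R) R rfl hRp hzP
  have hq : ∀ x ∈ X, ⁅⁅x, z⁆, z⁆ ∈ Y := fun x hx => by
    have hxz : ⁅x, z⁆ ∈ Z := by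
      rw [commutatorElement_def]
      refine mul_mem ((mem_normalizer_iff.mp ?_ z).mp hzZ) (inv_mem hzZ)
      exact le_normalizer.trans (normalizer_le_normalizer_centerThompsonAOf _)
        (pCore_le_sylow T (hXR hx))
    rw [commutatorElement_eq_one_iff_commute.mpr
      (le_centralizer_iff_isMulCommutative.mpr (centerThompsonAOf_comm _) hzZ _ hxz)]
    exact one_mem _
  obtain ⟨H, hH, hHn, -, hcomm⟩ := exists_bad hp hXY (hRp.to_le hXR)
    (exists_pow_prime_pow (isPGroup_centerThompsonAOf T.2) hzZ) hq hmov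
  exact hHn (invFree_of_thompson_le hN hsub hG hH T fun j hj =>
    hcomm j (mem_centralizer_iff.mp hzZ.2 j hj))

include hN hsub hG hp hquot in
theorem minimal_counterexample : False := by
  classical
  obtain ⟨T⟩ : Nonempty (Sylow p G) := inferInstance
  set R := pCore p G with hR
  have hRp : IsPGroup p R := isPGroup_pCore p G
  have hRT : R ≤ (T : Subgroup G) := pCore_le_sylow T
  set Z := centerThompsonAOf (T : Subgroup G) with hZ
  have hZR : Z ≤ R := centerThompsonAOf_le_pCore hN hsub hG hp hquot T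
  have hZnot : ¬ Z.Normal := fun h => hG ((normalizer_eq_top_iff.mpr h) ▸ hN T)
  -- a minimal `U`
  obtain ⟨U, ⟨hUn, hUR, hUZ⟩, hUmin⟩ := Set.Finite.exists_minimal
    (s := {U : Subgroup G | U.Normal ∧ U ≤ R ∧ ¬ (U ⊓ Z).Normal}) (Set.toFinite _)
    ⟨R, inferInstance, le_rfl, by rwa [inf_eq_right.mpr hZR]⟩
  haveI := hUn
  have hUp : IsPGroup p U := hRp.to_le hUR
  have hUne : U ≠ ⊥ := by
    rintro rfl
    exact hUZ (by rw [bot_inf_eq]; infer_instance)
  have hgen : normalClosure ((U ⊓ Z : Subgroup G) : Set G) = U := by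
    have hle : normalClosure ((U ⊓ Z : Subgroup G) : Set G) ≤ U := normalClosure_le_normal inf_le_left
    refine le_antisymm hle (hUmin ⟨normalClosure_normal, hle.trans hUR, ?_⟩ hle)
    rwa [le_antisymm (inf_le_inf_right Z hle) (le_inf (subset_normalClosure) inf_le_right)]
  have hlt : ⁅U, U⁆ < U := Coprime.commutator_lt_of_isPGroup hUp hUp le_normalizer hUne
  set W := ⁅U, U⁆ ⊓ Z with hW
  haveI hWn : W.Normal := by
    by_contra h
    exact hlt.not_ge (hUmin ⟨inferInstance, hlt.le.trans hUR, h⟩ hlt.le)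
  have hTZ : (T : Subgroup G) ≤ normalizer (Z : Set G) :=
    le_normalizer.trans (normalizer_le_normalizer_centerThompsonAOf _)
  have hder : ⁅U, U⁆ ≤ Z := by
    set π := QuotientGroup.mk' W with hπ
    haveI : (U.map π).Normal := Subgroup.Normal.map inferInstance _ (QuotientGroup.mk'_surjective W)
    have h1 : U ≤ (centralizer (U.map π : Set (G ⧸ W))).comap π := by
      conv_lhs => rw [← hgen]
      refine normalClosure_le_normal ?_
      rintro u ⟨huU, huZ⟩ _ ⟨v, hv, rfl⟩
      refine (commutatorElement_eq_one_iff_commute.mp ?_).eq.symm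
      rw [← map_commutatorElement]
      refine (QuotientGroup.eq_one_iff _).mpr ⟨commutator_mem_commutator huU hv, ?_⟩
      rw [commutatorElement_def]
      have h2 := (mem_normalizer_iff.mp (hTZ (hRT (hUR hv))) u⁻¹).mp (inv_mem huZ)
      simpa [mul_assoc] using mul_mem huZ h2
    refine le_trans ?_ (inf_le_right : W ≤ Z)
    rw [commutator_le]
    intro u hu v hv
    refine (QuotientGroup.eq_one_iff _).mp ?_
    show π ⁅u, v⁆ = 1
    rw [map_commutatorElement, commutatorElement_eq_one_iff_commute]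
    exact (mem_centralizer_iff.mp (h1 hu) _ (mem_map_of_mem π hv)).symm
  have hcentral : ∀ u ∈ U, ∀ v ∈ U, ∀ w ∈ U, Commute ⁅u, v⁆ w := by
    haveI : (centralizer ((⁅U, U⁆ : Subgroup G) : Set G)).Normal := inferInstance
    have h1 : U ≤ centralizer ((⁅U, U⁆ : Subgroup G) : Set G) := by
      conv_lhs => rw [← hgen]
      refine normalClosure_le_normal fun u hu => ?_
      intro c hc
      exact le_centralizer_iff_isMulCommutative.mpr (centerThompsonAOf_comm _) hu.2 c (hder hc)
    exact fun u hu v hv w hw => mem_centralizer_iff.mp (h1 hw) _ (commutator_mem_commutator hu hv)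
  set C := centralizer (U : Set G) with hC
  set P := coreMod p U with hP
  set T₀ := (T : Subgroup G) ⊓ P with hT₀
  have hRP : R ≤ P := le_coreMod R fun g hg => by
    obtain ⟨k, hk⟩ := exists_pow_prime_pow hRp hg
    exact ⟨k, hk ▸ one_mem _⟩
  have hfr := centralizer_sup_normalizer_eq_top T U
  -- normality from the Frattini factorisation
  have hnormal : ∀ Z₀ : Subgroup G, normalizer (T₀ : Set G) ≤ normalizer (Z₀ : Set G) →
      (U ⊓ Z₀).Normal := fun Z₀ h => by
    refine normalizer_eq_top_iff.mp (eq_top_iff.mpr (hfr.ge.trans (sup_le ?_ ?_)))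
    · intro c hc
      refine LocalStructure.mem_normalizer_of_forall fun y hy => ?_
      rwa [← mem_centralizer_iff.mp hc y hy.1, mul_inv_cancel_right]
    · intro n hn
      refine LocalStructure.mem_normalizer_of_forall fun y hy => ⟨?_, ?_⟩
      · exact Subgroup.Normal.conj_mem hUn _ hy.1 _
      · exact (mem_normalizer_iff.mp (h hn) y).mp hy.2
  -- some largest abelian subgroup is outside `P`
  have hexA : ∃ A ∈ maxAbIn (T : Subgroup G), ¬ A ≤ P := by
    by_contra hall
    push Not at hall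
    refine hUZ (hnormal Z ?_)
    have hJ : thompsonSubgroupAOf (T : Subgroup G) ≤ T₀ := by
      rw [thompsonSubgroupAOf_eq]
      exact sSup_le fun A hA => le_inf hA.1 (hall A hA)
    have he : centerThompsonAOf T₀ = Z := by
      rw [hZ, centerThompsonAOf, centerThompsonAOf, thompsonSubgroupAOf_eq_of_le inf_le_left hJ]
    exact (normalizer_le_normalizer_centerThompsonAOf T₀).trans (by rw [he])
  obtain ⟨A, ⟨hA, hAP⟩, hAmax⟩ := Set.Finite.exists_maximalFor
    (fun A : Subgroup G => Nat.card (A ⊓ U : Subgroup G))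
    {A | A ∈ maxAbIn (T : Subgroup G) ∧ ¬ A ≤ P} (Set.toFinite _) hexA
  have hAT : A ≤ (T : Subgroup G) := hA.1
  have hUN : U ≤ normalizer (A : Set G) := by
    by_contra hnot
    obtain ⟨x, hxU, hxA, hxstep⟩ := OddOrder.ZJ.exists_step_element (p := p) T.2 hAT (hUR.trans hRT)
      (by rw [normalizer_eq_top]; exact le_top) hnot
    have hstep : OddOrder.ZJ.Step A U x := ⟨hA.2.1, by rw [normalizer_eq_top]; exact le_top,
      hder.trans (centerThompsonAOf_le_of_mem hA), hcentral, hxU, hxstep⟩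
    have hodd : ∀ v ∈ U, v * v = 1 → v = 1 := fun v hv h2 => by
      obtain ⟨k, hk⟩ := exists_pow_prime_pow hUp hv
      exact orderOf_eq_one_iff.mp (Nat.eq_one_of_dvd_coprimes
        (((Nat.coprime_primes Fact.out Nat.prime_two).mpr hp).pow_left k)
        (orderOf_dvd_of_pow_eq_one hk) (orderOf_dvd_of_pow_eq_one (by rwa [pow_two])))
    obtain ⟨hKc, hKcard, hKlt, hKN, -, hKle⟩ := hstep.replace hodd hxA
    set K := LocalEvenBasic.replaceAt A x with hK
    have hKT : K ≤ (T : Subgroup G) := hKle.trans (sup_le hAT (hUR.trans hRT))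
    have hKmax : K ∈ maxAbIn (T : Subgroup G) :=
      ⟨hKT, hKc, fun B hB hBc => (hA.2.2 B hB hBc).trans hKcard⟩
    have hKP : K ≤ P := by
      by_contra hKP
      have hlt' : Nat.card (A ⊓ U : Subgroup G) < Nat.card (K ⊓ U : Subgroup G) :=
        Set.ncard_lt_ncard (SetLike.coe_ssubset_coe.mpr hKlt) (Set.toFinite _)
      exact absurd (hAmax ⟨hKmax, hKP⟩ hlt'.le) (not_le.mpr hlt')
    have hKT₀ : K ≤ T₀ := le_inf hKT hKP
    set Z₀ := centerThompsonAOf T₀ with hZ₀
    have hZZ₀ : Z ≤ Z₀ := centerThompsonAOf_le_of_le inf_le_left hKmax hKT₀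
    have hK₀ : K ∈ maxAbIn T₀ := by
      rw [maxAbIn_of_le inf_le_left hKmax hKT₀]; exact ⟨hKmax, hKT₀⟩
    haveI := hnormal Z₀ (normalizer_le_normalizer_centerThompsonAOf T₀)
    have hU : U ≤ K := by
      conv_lhs => rw [← hgen]
      refine (normalClosure_le_normal (N := U ⊓ Z₀) (inf_le_inf_left U hZZ₀)).trans ?_
      exact inf_le_right.trans (centerThompsonAOf_le_of_mem hK₀)
    exact hnot (hU.trans hKN)
  obtain ⟨a, haA, haP⟩ := SetLike.not_le_iff_exists.mp hAP
  obtain ⟨X, Y, hXn, hYn, hXY, hXU, hmov⟩ := exists_moved_factor (Nat.card U) U rfl hUp haP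
  have hq : ∀ x ∈ X, ⁅⁅x, a⁆, a⁆ ∈ Y := fun x hx => by
    have hxa : ⁅x, a⁆ ∈ A := by
      rw [commutatorElement_def]
      exact mul_mem ((mem_normalizer_iff.mp (hUN (hXU hx)) a).mp haA) (inv_mem haA)
    rw [commutatorElement_eq_one_iff_commute.mpr
      (le_centralizer_iff_isMulCommutative.mpr hA.2.1 haA _ hxa)]
    exact one_mem _
  obtain ⟨H, hH, hHn, hRH, hcomm⟩ := exists_bad hp hXY (hUp.to_le hXU)
    (exists_pow_prime_pow (T.2.to_le hAT) haA) hq hmov
  obtain ⟨S, hDS, hSp, htop⟩ := exists_normal_zj hN hsub hG (T.2.to_le (sup_le hAT hRT))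
    (sup_le (fun d hd => hcomm d (le_centralizer_iff_isMulCommutative.mpr hA.2.1 haA d hd)) hRH)
    hH hHn
  haveI := normalizer_eq_top_iff.mp htop
  obtain ⟨T₂, hT₂⟩ := hSp.exists_le_sylow
  have hA₂ : A ∈ maxAbIn (T₂ : Subgroup G) :=
    mem_maxAbIn_of_le hA ((le_sup_left.trans hDS).trans hT₂)
  have hZ₂ : centerThompsonAOf (T₂ : Subgroup G) ≤ centerThompsonAOf S :=
    centerThompsonAOf_le_of_le hT₂ hA₂ (le_sup_left.trans hDS)
  obtain ⟨g, hg⟩ := exists_conj_sylow T₂ T
  have hZS : Z ≤ centerThompsonAOf S := by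
    rw [hZ, ← hg, ← map_centerThompsonAOf (f := (MulAut.conj g).toMonoidHom) (MulAut.conj g).injective]
    rintro _ ⟨y, hy, rfl⟩
    exact Subgroup.Normal.conj_mem inferInstance _ (hZ₂ hy) g
  have hUS : U ≤ A := by
    conv_lhs => rw [← hgen]
    refine (normalClosure_le_normal (N := centerThompsonAOf S) (inf_le_right.trans hZS)).trans ?_
    exact centerThompsonAOf_le_of_mem (by
      rw [maxAbIn_of_le hT₂ hA₂ (le_sup_left.trans hDS)]; exact ⟨hA₂, le_sup_left.trans hDS⟩)
  refine haP (le_coreMod (centralizer (U : Set G)) (fun g hg => ⟨0, by simpa using hg⟩) ?_)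
  intro u hu
  exact le_centralizer_iff_isMulCommutative.mpr hA.2.1 haA u (hUS hu)

end

/-- **Glauberman**: no inverted `p`-elements in `N(Z(J(T)))` implies none in `G`, for `p` odd. -/
theorem invFree_of_normalizer (hp : p ≠ 2) :
    ∀ (n : ℕ) (G : Type u) [Group G] [Finite G], Nat.card G = n → ∀ T : Sylow p G,
      InvFree p (normalizer (centerThompsonAOf (T : Subgroup G) : Set G)) →
      InvFree p (⊤ : Subgroup G) := by
  intro n
  induction n using Nat.strong_induction_on with
  | _ n ih =>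
  intro G _ _ hn T hT
  subst hn
  by_contra hG
  refine minimal_counterexample (fun S => ?_) (fun H hH S hS => ?_) hG hp (fun R hR hRne S hS => ?_)
  · obtain ⟨g, hg⟩ := exists_conj_sylow T S
    rw [← hg, ← map_centerThompsonAOf (f := (MulAut.conj g).toMonoidHom) (MulAut.conj g).injective,
      ← map_equiv_normalizer_eq]
    exact hT.conj g
  · have hlt : Nat.card H < Nat.card G :=
      lt_of_le_of_ne (card_le_card_group H) fun h => hH ((card_eq_iff_eq_top H).mp h)
    have hsubN : (normalizer (centerThompsonAOf (S : Subgroup H) : Set H)).map H.subtype ≤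
        H ⊓ normalizer (centerThompsonAOf ((S : Subgroup H).map H.subtype) : Set G) := by
      refine le_inf (map_subtype_le _) ?_
      rw [← map_centerThompsonAOf H.subtype_injective]
      exact le_normalizer_map _
    have h := ih _ hlt H rfl S
      ((invFree_map_iff _ H.subtype_injective _).mp (hS.mono hsubN))
    have := (invFree_map_iff H.subtype H.subtype_injective ⊤).mpr h
    rwa [← MonoidHom.range_eq_map, range_subtype] at this
  · haveI := hR
    have hlt : Nat.card (G ⧸ R) < Nat.card G := by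
      rw [card_eq_card_quotient_mul_card_subgroup R]
      exact lt_mul_of_one_lt_right Nat.card_pos ((R.one_lt_card_iff_ne_bot).mpr hRne)
    exact ih _ hlt (G ⧸ R) rfl S hS

/-- No inverted `p`-elements in `N(Z(J(T)))` implies none in `G`, for `p` odd. -/
theorem invFree_top (hp : p ≠ 2) (T : Sylow p G)
    (h : InvFree p (normalizer (centerThompsonAOf (T : Subgroup G) : Set G))) :
    InvFree p (⊤ : Subgroup G) :=
  invFree_of_normalizer hp _ G rfl T h

end CfsgLib.ZJInversion
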