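import Cfsg.Agent.PLocal.PStability

/-!
Two quadratic elements: in the group they generate, every element of order two modulo the kernel
commutes with both of them, and such an element exists unless the image is a `p`-group.
-/

set_option autoImplicit false
open scoped MatrixGroups commutatorElement

namespace CfsgLib.ZJInversion

open Cfsg Subgroup

section Ring

variable {R : Type*} [Ring R]

/-- The shape of the elements of a group generated by `1 + α`, `1 + β` with `α² = β² = 0`. -/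
def IsShape (α β u v : R) : Prop :=
  ∃ x y z w : R, (Commute α x ∧ Commute β x) ∧ (Commute α y ∧ Commute β y) ∧
    (Commute α z ∧ Commute β z) ∧ (Commute α w ∧ Commute β w) ∧
    u = x + y * α + z * β + w * (α * β) ∧ v = x - y * α - z * β + w * (β * α)

variable {α β : R}

theorem commute_anticomm (hα : α * α = 0) (hβ : β * β = 0) :
    Commute α (α * β + β * α) ∧ Commute β (α * β + β * α) := by
  constructor
  · show α * (α * β + β * α) = (α * β + β * α) * α
    rw [mul_add, add_mul, ← mul_assoc α α β, hα, zero_mul, zero_add, mul_assoc β α α, hα,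
      mul_zero, add_zero, mul_assoc]
  · show β * (α * β + β * α) = (α * β + β * α) * β
    rw [mul_add, add_mul, ← mul_assoc β β α, hβ, zero_mul, add_zero, mul_assoc α β β, hβ,
      mul_zero, zero_add, mul_assoc]

theorem isShape_one : IsShape α β (1 : R) 1 :=
  ⟨1, 0, 0, 0, ⟨.one_right _, .one_right _⟩, ⟨.zero_right _, .zero_right _⟩,
    ⟨.zero_right _, .zero_right _⟩, ⟨.zero_right _, .zero_right _⟩, by simp, by simp⟩

theorem IsShape.mul_left_gen (hα : α * α = 0) (hβ : β * β = 0) {u v : R} (h : IsShape α β u v) :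
    IsShape α β (u * (1 + α)) ((1 - α) * v) := by
  obtain ⟨x, y, z, w, ⟨hax, hbx⟩, ⟨hay, hby⟩, ⟨haz, hbz⟩, ⟨haw, hbw⟩, rfl, rfl⟩ := h
  obtain ⟨hac, hbc⟩ := commute_anticomm hα hβ
  set c := α * β + β * α with hc
  refine ⟨x + z * c, x + y + w * c, z, w - z, ⟨hax.add_right (haz.mul_right hac),
    hbx.add_right (hbz.mul_right hbc)⟩, ⟨(hax.add_right hay).add_right (haw.mul_right hac),
    (hbx.add_right hby).add_right (hbw.mul_right hbc)⟩, ⟨haz, hbz⟩,
    ⟨haw.sub_right haz, hbw.sub_right hbz⟩, ?_, ?_⟩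
  · have e1 : α * β * α = c * α := by
      rw [hc, add_mul, mul_assoc β α α, hα, mul_zero, add_zero]
    have e2 : β * α = c - α * β := by rw [hc]; abel
    calc (x + y * α + z * β + w * (α * β)) * (1 + α)
        = x + (x * α + y * α) + z * β + w * (α * β) + y * (α * α) + z * (β * α)
            + w * (α * β * α) := by noncomm_ring
      _ = _ := by rw [hα, e1, e2]; noncomm_ring
  · have e1 : α * β * α = c * α := by
      rw [hc, add_mul, mul_assoc β α α, hα, mul_zero, add_zero]
    have e2 : α * β = c - β * α := by rw [hc]; abel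
    calc (1 - α) * (x - y * α - z * β + w * (β * α))
        = x - y * α - z * β + w * (β * α) - (α * x) + (α * y) * α + (α * z) * β
            - (α * w) * (β * α) := by noncomm_ring
      _ = x - y * α - z * β + w * (β * α) - (x * α) + y * (α * α) + z * (α * β)
            - w * (α * β * α) := by rw [hax.eq, hay.eq, haz.eq, haw.eq]; noncomm_ring
      _ = _ := by rw [hα, e1, e2]; noncomm_ring

theorem IsShape.mul_right_gen (hα : α * α = 0) (hβ : β * β = 0) {u v : R} (h : IsShape α β u v) :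
    IsShape α β (u * (1 + β)) ((1 - β) * v) := by
  obtain ⟨x, y, z, w, ⟨hax, hbx⟩, ⟨hay, hby⟩, ⟨haz, hbz⟩, ⟨haw, hbw⟩, rfl, rfl⟩ := h
  refine ⟨x, y, x + z, w + y, ⟨hax, hbx⟩, ⟨hay, hby⟩, ⟨hax.add_right haz, hbx.add_right hbz⟩,
    ⟨haw.add_right hay, hbw.add_right hby⟩, ?_, ?_⟩
  · calc (x + y * α + z * β + w * (α * β)) * (1 + β)
        = x + y * α + (x + z) * β + (w + y) * (α * β) + z * (β * β) + w * (α * (β * β)) := by
          noncomm_ring
      _ = _ := by rw [hβ]; noncomm_ring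
  · calc (1 - β) * (x - y * α - z * β + w * (β * α))
        = x - y * α - z * β + w * (β * α) - (β * x) + (β * y) * α + (β * z) * β
            - (β * w) * (β * α) := by noncomm_ring
      _ = x - y * α - (x + z) * β + (w + y) * (β * α) + z * (β * β) - w * (β * β * α) := by
          rw [hbx.eq, hby.eq, hbz.eq, hbw.eq]; noncomm_ring
      _ = _ := by rw [hβ]; noncomm_ring

theorem IsShape.commute_add (hα : α * α = 0) (hβ : β * β = 0) {u v : R} (h : IsShape α β u v) :
    Commute α (u + v) := by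
  obtain ⟨x, y, z, w, ⟨hax, -⟩, -, -, ⟨haw, -⟩, rfl, rfl⟩ := h
  have e : x + y * α + z * β + w * (α * β) + (x - y * α - z * β + w * (β * α)) =
      x + x + w * (α * β + β * α) := by noncomm_ring
  rw [e]
  exact (hax.add_right hax).add_right (haw.mul_right (commute_anticomm hα hβ).1)

end Ring

/-- If two quadratic elements generate `X`, the image of an element of `X` whose square acts
trivially commutes with the image of the first generator. -/
theorem commute_of_quadratic_pair {X R : Type*} [Group X] [Finite X] [Ring R]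
    (h2 : ∀ r : R, r + r = 0 → r = 0) (ρ : X →* R) {a b : X}
    (hgen : Subgroup.closure ({a, b} : Set X) = ⊤) (ha : (ρ a - 1) * (ρ a - 1) = 0)
    (hb : (ρ b - 1) * (ρ b - 1) = 0) {s : X} (hs : ρ (s * s) = 1) : Commute (ρ s) (ρ a) := by
  set α := ρ a - 1 with hα
  set β := ρ b - 1 with hβ
  have ea : ρ a = 1 + α := by rw [hα]; abel
  have eb : ρ b = 1 + β := by rw [hβ]; abel
  have inv_eq : ∀ (g : X) (γ : R), γ * γ = 0 → ρ g = 1 + γ → ρ g⁻¹ = 1 - γ := by
    intro g γ hγ eg
    have h1 : (1 - γ) * ρ g = 1 := by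
      rw [eg]
      calc (1 - γ) * (1 + γ) = 1 - γ * γ := by noncomm_ring
        _ = 1 := by rw [hγ, sub_zero]
    calc ρ g⁻¹ = (1 - γ) * ρ g * ρ g⁻¹ := by rw [h1, one_mul]
      _ = 1 - γ := by rw [mul_assoc, ← map_mul, mul_inv_cancel, map_one, mul_one]
  let M : Submonoid X :=
    { carrier := {g | ∀ h : X, IsShape α β (ρ h) (ρ h⁻¹) → IsShape α β (ρ (h * g)) (ρ (h * g)⁻¹)}
      one_mem' := fun h hh => by rwa [mul_one]
      mul_mem' := fun {g k} hg hk h hh => by rw [← mul_assoc]; exact hk _ (hg h hh) }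
  have haM : a ∈ M := fun h hh => by
    rw [map_mul, mul_inv_rev, map_mul, inv_eq a α ha ea, ea]; exact hh.mul_left_gen ha hb
  have hbM : b ∈ M := fun h hh => by
    rw [map_mul, mul_inv_rev, map_mul, inv_eq b β hb eb, eb]; exact hh.mul_right_gen ha hb
  let M' : Subgroup X :=
    { M with
      inv_mem' := fun {g} hg => by
        show g⁻¹ ∈ M
        have : g⁻¹ = g ^ (orderOf g - 1) := by
          refine inv_eq_of_mul_eq_one_right ?_
          rw [← pow_succ', Nat.sub_add_cancel (orderOf_pos g), pow_orderOf_eq_one]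
        rw [this]
        exact pow_mem hg _ }
  have htop : (⊤ : Subgroup X) ≤ M' := by
    rw [← hgen, closure_le]
    rintro g (rfl | rfl)
    exacts [haM, hbM]
  have hshape := htop (mem_top s) 1 (by simpa using isShape_one)
  rw [one_mul] at hshape
  have hsinv : ρ s⁻¹ = ρ s := by
    calc ρ s⁻¹ = ρ s⁻¹ * ρ (s * s) := by rw [hs, mul_one]
      _ = ρ s := by rw [← map_mul, inv_mul_cancel_left]
  have h := hshape.commute_add ha hb
  rw [hsinv] at h
  have h0 : (ρ s * α - α * ρ s) + (ρ s * α - α * ρ s) = 0 := by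
    have := h.eq
    calc _ = (ρ s + ρ s) * α - α * (ρ s + ρ s) := by noncomm_ring
      _ = 0 := by rw [this, sub_self]
  show ρ s * ρ a = ρ a * ρ s
  rw [ea, mul_add, add_mul, mul_one, one_mul, sub_eq_zero.mp (h2 _ h0)]

variable {p : ℕ} [Fact p.Prime]

/-- The element `-1` of `SL(2, p)` in a subgroup generated by two quadratic elements: an element of
order two modulo the kernel. -/
theorem exists_involution_mod_ker (hp : p ≠ 2) {X A : Type*} [Group X] [Finite X] [AddCommGroup A]
    [Finite A] (hA : ∀ v : A, p • v = 0) (ρ : X →* AddMonoid.End A) {a b : X}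
    (hgen : Subgroup.closure ({a, b} : Set X) = ⊤) (ha : (ρ a - 1) * (ρ a - 1) = 0)
    (hb : (ρ b - 1) * (ρ b - 1) = 0) (hnp : ∃ g : X, ∀ k : ℕ, ρ (g ^ p ^ k) ≠ 1) :
    ∃ t : X, (∃ k : ℕ, t ^ 2 ^ k = 1) ∧ ρ t ≠ 1 ∧ ρ (t * t) = 1 := by
  obtain ⟨φ, hker, hta, htb, hnc⟩ :=
    PLocal.exists_hom_of_quadratic_pair hA ρ hgen ha hb hnp
  haveI : CharP (AlgebraicClosure (ZMod p)) p :=
    charP_of_injective_algebraMap (algebraMap (ZMod p) _).injective p
  haveI : Finite φ.range := Finite.of_surjective φ.rangeRestrict φ.rangeRestrict_surjective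
  obtain ⟨f, hf, hfr⟩ := PLocal.SL2.exists_sl2_zmod_hom hp φ.range ⟨a, rfl⟩ ⟨b, rfl⟩ hta htb hnc
  have h2 : (2 : ZMod p) ≠ 0 := PLocal.SL2.two_ne_zero' hp
  have hneg : (-1 : SL(2, ZMod p)) ≠ 1 := fun h => by
    have := congrArg (fun g : SL(2, ZMod p) => g 0 0) h
    simp at this
    exact h2 (by linear_combination -this)
  obtain ⟨s₀, hs₀⟩ := hfr ⟨-1, rfl⟩
  set u := f (-1) with hu
  have hu1 : u ≠ 1 := fun h => hneg (hf (h.trans f.map_one.symm))
  have hu2 : u ^ 2 = 1 := by rw [hu, ← map_pow, sq, neg_mul_neg, one_mul, map_one]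
  obtain ⟨k, m, hm, hk⟩ := Nat.exists_eq_pow_mul_and_not_dvd (orderOf_pos s₀).ne' 2 (by norm_num)
  set t₀ := s₀ ^ m with ht₀
  have ht₀k : t₀ ^ 2 ^ k = 1 := by rw [ht₀, ← pow_mul, mul_comm, ← hk, pow_orderOf_eq_one]
  have ht₀φ : φ t₀ ≠ 1 := by
    rw [ht₀, map_pow, hs₀]
    obtain ⟨j, rfl⟩ : Odd m := Nat.odd_iff.mpr (by omega)
    rw [pow_succ, pow_mul, hu2, one_pow, one_mul]
    exact hu1
  have hρt₀ : ρ t₀ ≠ 1 := fun h => ht₀φ (hker _ h)
  classical
  have hex : ∃ j, ρ (t₀ ^ 2 ^ j) = 1 := ⟨k, by rw [ht₀k, map_one]⟩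
  have hj := Nat.find_spec hex
  obtain ⟨j, hjeq⟩ : ∃ j, Nat.find hex = j + 1 :=
    Nat.exists_eq_add_one.2 (Nat.pos_of_ne_zero fun h0 => hρt₀ (by rw [h0, pow_zero, pow_one] at hj; exact hj))
  refine ⟨t₀ ^ 2 ^ j, ⟨k, by rw [← pow_mul, mul_comm, pow_mul, ht₀k, one_pow]⟩,
    Nat.find_min hex (by omega), ?_⟩
  rw [← pow_two, ← pow_mul, ← pow_succ, ← hjeq]
  exact hj

end CfsgLib.ZJInversion
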