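import Cfsg.Agent.ConjFunctor.Engel
import Cfsg.Agent.PLocal.PStability
import Cfsg.Agent.ZJInversion.Pair
import Cfsg.Agent.LocalEvenBasic.DStar

/-!
Groups in which no nontrivial `p`-element is inverted: two-elements centralize the `p`-subgroups
they normalize, and the property passes to quotients. Chief factors moved by a given element.
-/

set_option autoImplicit false
open scoped commutatorElement IsMulCommutative

namespace CfsgLib.ZJInversion

open Cfsg Subgroup

variable {G : Type*} [Group G] {p : ℕ}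

/-- No nontrivial `p`-element of `H` is inverted by an element of `H`. -/
def InvFree (p : ℕ) (H : Subgroup G) : Prop :=
  ∀ x ∈ H, ∀ g ∈ H, (∃ k : ℕ, x ^ p ^ k = 1) → g * x * g⁻¹ = x⁻¹ → x = 1

theorem InvFree.mono {H K : Subgroup G} (hle : H ≤ K) (h : InvFree p K) : InvFree p H :=
  fun x hx g hg => h x (hle hx) g (hle hg)

theorem invFree_map_iff {Q : Type*} [Group Q] (f : G →* Q) (hf : Function.Injective f)
    (H : Subgroup G) : InvFree p (H.map f) ↔ InvFree p H := by
  constructor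
  · intro h x hx g hg hk hgx
    obtain ⟨k, hk⟩ := hk
    refine hf ?_
    rw [map_one]
    exact h (f x) (mem_map_of_mem f hx) (f g) (mem_map_of_mem f hg)
      ⟨k, by rw [← map_pow, hk, map_one]⟩ (by rw [← map_inv, ← map_inv, ← map_mul, ← map_mul, hgx])
  · rintro h _ ⟨x, hx, rfl⟩ _ ⟨g, hg, rfl⟩ ⟨k, hk⟩ hgx
    rw [h x hx g hg ⟨k, hf (by rw [map_pow, hk, map_one])⟩
      (hf (by rw [map_mul, map_mul, map_inv, hgx, map_inv])), map_one]

theorem InvFree.conj {H : Subgroup G} (h : InvFree p H) (g : G) :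
    InvFree p (H.map (MulAut.conj g).toMonoidHom) :=
  (invFree_map_iff _ (MulAut.conj g).injective H).mpr h

theorem exists_pow_prime_pow {P : Subgroup G} (hP : IsPGroup p P) {x : G} (hx : x ∈ P) :
    ∃ k : ℕ, x ^ p ^ k = 1 := by
  obtain ⟨k, hk⟩ := hP ⟨x, hx⟩
  exact ⟨k, congrArg Subtype.val hk⟩

theorem pow_odd_inverts {g x : G} (h : g * x * g⁻¹ = x⁻¹) {m : ℕ} (hm : Odd m) :
    g ^ m * x * (g ^ m)⁻¹ = x⁻¹ := by
  obtain ⟨j, rfl⟩ := hm
  induction j with
  | zero => simpa using h
  | succ j ih =>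
    have h' : g * x⁻¹ * g⁻¹ = x := by
      have := congrArg (·⁻¹) h
      simpa [mul_assoc] using this
    have e : g ^ (2 * (j + 1) + 1) = g * (g * g ^ (2 * j + 1)) := by
      rw [← pow_succ', ← pow_succ']; ring_nf
    calc g ^ (2 * (j + 1) + 1) * x * (g ^ (2 * (j + 1) + 1))⁻¹
        = g * (g * (g ^ (2 * j + 1) * x * (g ^ (2 * j + 1))⁻¹) * g⁻¹) * g⁻¹ := by rw [e]; group
      _ = x⁻¹ := by rw [ih, h', h]

/-- In a group without inverted `p`-elements, a two-element normalizing a `p`-subgroup centralizes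
it. -/
theorem InvFree.centralizes {H P : Subgroup G} (h : InvFree p H) (hP : IsPGroup p P) (hPH : P ≤ H) :
    ∀ (k : ℕ) {n : G}, n ∈ H → n ^ 2 ^ k = 1 → (∀ y ∈ P, n * y * n⁻¹ ∈ P) →
      ∀ y ∈ P, n * y * n⁻¹ = y := by
  intro k
  induction k with
  | zero =>
    intro n _ hn _ y _
    rw [pow_zero, pow_one] at hn
    simp [hn]
  | succ k ih =>
    intro n hnH hn hnP y hy
    have hn2 : (n * n) ^ 2 ^ k = 1 := by
      rw [← pow_two, ← pow_mul, ← pow_succ']; exact hn
    have hfix : (n * n) * y * (n * n)⁻¹ = y := ih (mul_mem hnH hnH) hn2 (fun w hw => by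
      have e : n * n * w * (n * n)⁻¹ = n * (n * w * n⁻¹) * n⁻¹ := by group
      rw [e]; exact hnP _ (hnP w hw)) y hy
    have hzP : y⁻¹ * (n * y * n⁻¹) ∈ P := mul_mem (inv_mem hy) (hnP y hy)
    have hinv : n * (y⁻¹ * (n * y * n⁻¹)) * n⁻¹ = (y⁻¹ * (n * y * n⁻¹))⁻¹ := by
      have e : n * (y⁻¹ * (n * y * n⁻¹)) * n⁻¹ = n * y⁻¹ * n⁻¹ * (n * n * y * (n * n)⁻¹) := by
        group
      rw [e, hfix]; group
    exact (inv_mul_eq_one.mp (h _ (hPH hzP) n hnH (exists_pow_prime_pow hP hzP) hinv)).symm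

theorem InvFree.commute_of_two_element {H P : Subgroup G} (h : InvFree p H) (hP : IsPGroup p P)
    (hPH : P ≤ H) {n : G} (hnH : n ∈ H) (hn : ∃ k : ℕ, n ^ 2 ^ k = 1)
    (hnN : n ∈ normalizer (P : Set G)) : n ∈ centralizer (P : Set G) := by
  obtain ⟨k, hk⟩ := hn
  intro y hy
  have := h.centralizes hP hPH k hnH hk (fun w hw => (mem_normalizer_iff.mp hnN w).mp hw) y hy
  exact (mul_inv_eq_iff_eq_mul.mp this).symm

/-- Without inverted `p`-elements in `G`, none in a homomorphic image. -/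
theorem invFree_range [Finite G] [Fact p.Prime] (hp : p ≠ 2) {Q : Type*} [Group Q] (π : G →* Q)
    (h : InvFree p (⊤ : Subgroup G)) : InvFree p π.range := by
  rintro _ ⟨x₀, rfl⟩ _ ⟨g, rfl⟩ ⟨k, hk⟩ hgx
  -- a `p`-element lift
  obtain ⟨e, m, hm, he⟩ := Nat.exists_eq_pow_mul_and_not_dvd (orderOf_pos x₀).ne' p
    (Fact.out : p.Prime).ne_one
  obtain ⟨j, hj1, hj0⟩ := Nat.chineseRemainder (Nat.Coprime.pow_left k
    ((Fact.out : p.Prime).coprime_iff_not_dvd.mpr hm)) 1 0
  set x := x₀ ^ j with hxdef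
  have hxk : x ^ p ^ e = 1 := by
    obtain ⟨c, hc⟩ := Nat.modEq_zero_iff_dvd.mp hj0
    rw [hxdef, ← pow_mul, hc, show m * c * p ^ e = orderOf x₀ * c by rw [he]; ring, pow_mul,
      pow_orderOf_eq_one, one_pow]
  have hπx : π x = π x₀ := by
    rw [hxdef, map_pow]
    conv_rhs => rw [← pow_one (π x₀)]
    exact pow_eq_pow_iff_modEq.mpr (hj1.of_dvd (orderOf_dvd_of_pow_eq_one hk))
  rw [← hπx] at hgx hk ⊢
  set X : Subgroup G := (Subgroup.zpowers (π x)).comap π with hX
  have hxX : x ∈ X := mem_zpowers (π x)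
  have hconjX : ∀ y ∈ X, g * y * g⁻¹ ∈ X := by
    intro y hy
    obtain ⟨i, hi⟩ := mem_zpowers_iff.mp (show π y ∈ Subgroup.zpowers (π x) from hy)
    show π (g * y * g⁻¹) ∈ Subgroup.zpowers (π x)
    rw [map_mul, map_mul, map_inv, ← hi, ← conj_zpow, hgx]
    exact zpow_mem (inv_mem (mem_zpowers _)) _
  -- a Sylow subgroup of `X` containing `x`
  have hxp : IsPGroup p (Subgroup.zpowers (⟨x, hxX⟩ : X)) := by
    rintro ⟨y, hy⟩
    obtain ⟨i, rfl⟩ := mem_zpowers_iff.mp hy
    refine ⟨e, Subtype.ext (Subtype.ext ?_)⟩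
    simp only [SubmonoidClass.coe_pow, Subgroup.coe_zpow, OneMemClass.coe_one]
    rw [← zpow_natCast, ← zpow_mul, mul_comm, zpow_mul, zpow_natCast, hxk, one_zpow]
  obtain ⟨S, hS⟩ := hxp.exists_le_sylow
  let c : X →* X :=
    { toFun := fun y => ⟨g * y * g⁻¹, hconjX y y.2⟩
      map_one' := Subtype.ext (by simp)
      map_mul' := fun a b => Subtype.ext (by simp [mul_assoc]) }
  have hc : Function.Injective c := fun a b hab => Subtype.ext (by
    have := congrArg Subtype.val hab
    simpa [c] using this)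
  obtain ⟨S', hS'⟩ := (S.2.map c).exists_le_sylow
  have hS'eq : (S : Subgroup X).map c = (S' : Subgroup X) :=
    eq_of_le_of_card_ge hS' (by rw [card_map_of_injective hc, Sylow.card_eq_multiplicity,
      Sylow.card_eq_multiplicity])
  obtain ⟨t, ht⟩ := MulAction.exists_smul_eq X S' S
  have htS : (S' : Subgroup X).map (MulAut.conj t).toMonoidHom = (S : Subgroup X) := by
    rw [← ht]; rfl
  set n₀ := (t : G) * g with hn₀
  obtain ⟨a, b, hb, hab⟩ := Nat.exists_eq_pow_mul_and_not_dvd (orderOf_pos n₀).ne' 2 (by norm_num)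
  set P := (S : Subgroup X).map X.subtype with hP
  have hn₀P : ∀ y ∈ P, n₀ * y * n₀⁻¹ ∈ P := by
    rintro _ ⟨y, hy, rfl⟩
    refine ⟨(MulAut.conj t).toMonoidHom (c y), ?_, ?_⟩
    · rw [← htS, ← hS'eq]; exact mem_map_of_mem _ (mem_map_of_mem _ hy)
    · simp [c, hn₀, mul_assoc]
  have hn₀x : π n₀ * π x * (π n₀)⁻¹ = (π x)⁻¹ := by
    obtain ⟨i, hi⟩ := mem_zpowers_iff.mp (show π t ∈ Subgroup.zpowers (π x) from t.2)
    rw [hn₀, map_mul, ← hi]
    calc π x ^ i * π g * π x * (π x ^ i * π g)⁻¹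
        = π x ^ i * (π g * π x * (π g)⁻¹) * (π x ^ i)⁻¹ := by group
      _ = (π x)⁻¹ := by rw [hgx]; group
  have hbodd : Odd b := Nat.odd_iff.mpr (by omega)
  have hnP : ∀ y ∈ P, n₀ ^ b * y * (n₀ ^ b)⁻¹ ∈ P := by
    have hmem : n₀ ∈ normalizer (P : Set G) := by
      rw [mem_normalizer_iff_map_conj_eq]
      refine eq_of_le_of_card_ge ?_ (card_map_of_injective (MulAut.conj n₀).injective).ge
      rintro _ ⟨y, hy, rfl⟩
      exact hn₀P y hy
    exact fun y hy => (mem_normalizer_iff.mp (pow_mem hmem b) y).mp hy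
  have hfix := h.centralizes (S.2.map X.subtype) le_top a (mem_top (n₀ ^ b))
    (by rw [← pow_mul, mul_comm, ← hab, pow_orderOf_eq_one]) hnP x
    ⟨⟨x, hxX⟩, hS (mem_zpowers _), rfl⟩
  have hxx : π x = (π x)⁻¹ := by
    rw [← pow_odd_inverts hn₀x hbodd, ← map_pow, ← map_inv, ← map_mul, ← map_mul, hfix]
  have h2 : π x ^ 2 = 1 := by
    rw [pow_two]
    nth_rw 2 [hxx]
    rw [mul_inv_cancel]
  exact orderOf_eq_one_iff.mp (Nat.eq_one_of_dvd_coprimes
    (((Nat.coprime_primes Fact.out Nat.prime_two).mpr hp).pow_left k)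
    (orderOf_dvd_of_pow_eq_one hk) (orderOf_dvd_of_pow_eq_one h2))

theorem invFree_map [Finite G] [Fact p.Prime] (hp : p ≠ 2) {Q : Type*} [Group Q] (π : G →* Q)
    {H : Subgroup G} (h : InvFree p H) : InvFree p (H.map π) := by
  have h' : InvFree p (⊤ : Subgroup H) := (invFree_map_iff H.subtype H.subtype_injective ⊤).mp (by
    rwa [← MonoidHom.range_eq_map, range_subtype])
  have := invFree_range hp (π.comp H.subtype) h'
  rwa [MonoidHom.range_comp, range_subtype] at this

/-! ### Chief factors -/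

/-- The centralizer of the factor `X / Y`. -/
def factorCent (X Y : Subgroup G) [Y.Normal] : Subgroup G :=
  (centralizer (X.map (QuotientGroup.mk' Y) : Set (G ⧸ Y))).comap (QuotientGroup.mk' Y)

theorem mem_factorCent {X Y : Subgroup G} [Y.Normal] {g : G} :
    g ∈ factorCent X Y ↔ ∀ x ∈ X, ⁅g, x⁆ ∈ Y := by
  rw [factorCent, mem_comap, mem_centralizer_iff]
  constructor
  · intro h x hx
    refine (QuotientGroup.eq_one_iff _).mp ?_
    show QuotientGroup.mk' Y ⁅g, x⁆ = 1
    rw [map_commutatorElement, commutatorElement_eq_one_iff_commute]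
    exact (h _ (mem_map_of_mem _ hx)).symm
  · rintro h _ ⟨x, hx, rfl⟩
    have h1 : QuotientGroup.mk' Y ⁅g, x⁆ = 1 := (QuotientGroup.eq_one_iff _).mpr (h x hx)
    rw [map_commutatorElement, commutatorElement_eq_one_iff_commute] at h1
    exact h1.eq.symm

instance factorCent_normal (X Y : Subgroup G) [X.Normal] [Y.Normal] : (factorCent X Y).Normal := by
  haveI : (X.map (QuotientGroup.mk' Y)).Normal :=
    Subgroup.Normal.map inferInstance _ (QuotientGroup.mk'_surjective Y)
  exact Subgroup.Normal.comap inferInstance _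

variable [Finite G] [Fact p.Prime]

/-- A normal subgroup all of whose elements have a `p`-power in the centralizer of a `p`-chief
factor centralizes that factor. -/
theorem le_factorCent_of_forall_pow {X Y : Subgroup G} [Y.Normal] (hXY : IsChiefFactor X Y)
    (hX : IsPGroup p X) (P : Subgroup G) [P.Normal]
    (hP : ∀ g ∈ P, ∃ k : ℕ, g ^ p ^ k ∈ factorCent X Y) : P ≤ factorCent X Y := by
  haveI := hXY.2.1
  set π := QuotientGroup.mk' Y with hπ
  set C := factorCent X Y with hC
  -- a Sylow subgroup of `P` together with `C ⊓ P` is all of `P`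
  obtain ⟨S⟩ : Nonempty (Sylow p P) := inferInstance
  haveI hCn : (C.subgroupOf P).Normal := Subgroup.Normal.comap inferInstance _
  have htop : C.subgroupOf P ⊔ (S : Subgroup P) = ⊤ := by
    rw [← index_eq_one]
    have h1 : IsPGroup p (P ⧸ C.subgroupOf P) := by
      intro q
      obtain ⟨g, rfl⟩ := QuotientGroup.mk_surjective q
      obtain ⟨k, hk⟩ := hP g g.2
      refine ⟨k, ?_⟩
      rw [← QuotientGroup.mk_pow]
      exact (QuotientGroup.eq_one_iff _).mpr (mem_subgroupOf.mpr (by simpa using hk))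
    obtain ⟨k, hk⟩ := IsPGroup.iff_card.mp h1
    have hd1 : (C.subgroupOf P ⊔ (S : Subgroup P)).index ∣ p ^ k := by
      rw [← hk, ← index_eq_card]; exact index_dvd_of_le le_sup_left
    have hd2 : (C.subgroupOf P ⊔ (S : Subgroup P)).index ∣ (S : Subgroup P).index :=
      index_dvd_of_le le_sup_right
    exact Nat.eq_one_of_dvd_coprimes
      (Nat.Coprime.pow_left k ((Fact.out : p.Prime).coprime_iff_not_dvd.mpr S.not_dvd_index)) hd1 hd2
  -- fixed points
  set W := (S : Subgroup P).map P.subtype ⊔ X with hW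
  have hWp : IsPGroup p W := (S.2.map P.subtype).to_sup_of_normal_right hX
  set T := W.map π with hT
  set V := (X.map π).subgroupOf T with hV
  have hXT : X.map π ≤ T := map_mono le_sup_right
  haveI : (X.map π).Normal := Subgroup.Normal.map inferInstance _ (QuotientGroup.mk'_surjective Y)
  haveI : V.Normal := Subgroup.Normal.comap inferInstance _
  have hVne : V ≠ ⊥ := by
    intro hbot
    rw [hV, subgroupOf_eq_bot, disjoint_of_le_iff_left_eq_bot hXT, Subgroup.map_eq_bot_iff,
      QuotientGroup.ker_mk'] at hbot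
    exact hXY.1.not_ge hbot
  obtain ⟨z, hz, hz1⟩ := LocalEvenBasic.exists_mem_center_of_normal (hWp.map π) V hVne
  -- the subgroup of fixed points
  set N := X ⊓ (centralizer (P.map π : Set (G ⧸ Y))).comap π with hN
  haveI : (P.map π).Normal := Subgroup.Normal.map inferInstance _ (QuotientGroup.mk'_surjective Y)
  haveI : ((centralizer (P.map π : Set (G ⧸ Y))).comap π).Normal :=
    Subgroup.Normal.comap inferInstance _
  haveI : N.Normal := Subgroup.normal_inf_normal _ _
  have hYN : Y ≤ N := le_inf hXY.1.le (fun y hy => by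
    show π y ∈ centralizer (P.map π : Set (G ⧸ Y))
    rw [show π y = 1 from (QuotientGroup.eq_one_iff y).mpr hy]; exact one_mem _)
  obtain ⟨x, hxX, hxz⟩ := (mem_subgroupOf.mp hz.1 : ((z : G ⧸ Y)) ∈ X.map π)
  have hxN : x ∈ N := by
    refine ⟨hxX, ?_⟩
    rintro _ ⟨g, hg, rfl⟩
    let fix : Subgroup P := (centralizer {π x}).comap (π.comp P.subtype)
    have hfix : C.subgroupOf P ⊔ (S : Subgroup P) ≤ fix := by
      refine sup_le (fun c hc => ?_) (fun s hs => ?_)
      · intro w hw
        rw [Set.mem_singleton_iff] at hw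
        subst hw
        have hc' : (c : G) ∈ factorCent X Y := hc
        exact mem_centralizer_iff.mp (mem_comap.mp hc') _ (mem_map_of_mem π hxX)
      · intro w hw
        rw [Set.mem_singleton_iff] at hw
        subst hw
        have hsT : π (s : G) ∈ T := mem_map_of_mem π (mem_sup_left ⟨s, hs, rfl⟩)
        have := congrArg Subtype.val (Subgroup.mem_center_iff.mp hz.2 ⟨_, hsT⟩)
        show π x * π (s : G) = π (s : G) * π x
        rw [hxz]
        exact this.symm
    have := hfix (htop.ge (mem_top (⟨g, hg⟩ : P))) (π x) rfl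
    exact this.symm
  have hNX : N = X := by
    refine (hXY.2.2.2 N inferInstance hYN inf_le_left).resolve_left fun h => hz1 ?_
    refine Subtype.ext ?_
    show (z : G ⧸ Y) = 1
    rw [← hxz]
    exact (QuotientGroup.eq_one_iff x).mpr (h ▸ hxN)
  intro g hg
  rw [hC, mem_factorCent]
  intro y hy
  refine (QuotientGroup.eq_one_iff _).mp ?_
  show π ⁅g, y⁆ = 1
  rw [map_commutatorElement, commutatorElement_eq_one_iff_commute]
  exact (hNX.ge hy).2 _ (mem_map_of_mem π hg)

theorem isElementaryAbelian_factor {X Y : Subgroup G} [Y.Normal] (hXY : IsChiefFactor X Y)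
    (hX : IsPGroup p X) : IsElementaryAbelian p (X.map (QuotientGroup.mk' Y)) := by
  obtain ⟨h1, h2⟩ := ConjFunctor.chiefFactor_elementary hXY hX
  refine ⟨le_centralizer_iff_isMulCommutative.mp ?_, ?_⟩
  · rw [← commutator_eq_bot_iff_le_centralizer, ← map_commutator, Subgroup.map_eq_bot_iff,
      QuotientGroup.ker_mk']
    exact h1
  · rintro _ ⟨x, hx, rfl⟩
    rw [← map_pow]
    exact (QuotientGroup.eq_one_iff _).mpr (h2 x hx)

/-- The preimage of `O_p(G / C(K))`. -/
def coreMod (p : ℕ) (K : Subgroup G) [K.Normal] : Subgroup G :=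
  (pCore p (G ⧸ centralizer (K : Set G))).comap (QuotientGroup.mk' (centralizer (K : Set G)))

instance coreMod_normal (p : ℕ) (K : Subgroup G) [K.Normal] : (coreMod p K).Normal :=
  Subgroup.Normal.comap inferInstance _

theorem exists_pow_mem_of_mem_coreMod {K : Subgroup G} [K.Normal] {g : G} (hg : g ∈ coreMod p K) :
    ∃ k : ℕ, g ^ p ^ k ∈ centralizer (K : Set G) := by
  obtain ⟨k, hk⟩ := exists_pow_prime_pow (PLocal.isPGroup_pCore p _) hg
  exact ⟨k, (QuotientGroup.eq_one_iff _).mp (by rwa [← map_pow] at hk)⟩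

theorem le_coreMod {K : Subgroup G} [K.Normal] (M : Subgroup G) [M.Normal]
    (hM : ∀ g ∈ M, ∃ k : ℕ, g ^ p ^ k ∈ centralizer (K : Set G)) : M ≤ coreMod p K := by
  rw [coreMod, ← map_le_iff_le_comap]
  haveI : (M.map (QuotientGroup.mk' (centralizer (K : Set G)))).Normal :=
    Subgroup.Normal.map inferInstance _ (QuotientGroup.mk'_surjective _)
  refine PLocal.le_pCore ?_
  rintro ⟨_, g, hg, rfl⟩
  obtain ⟨k, hk⟩ := hM g hg
  exact ⟨k, Subtype.ext (by
    rw [SubmonoidClass.coe_pow, OneMemClass.coe_one, ← map_pow]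
    exact (QuotientGroup.eq_one_iff _).mpr hk)⟩

/-- An element outside the preimage of `O_p(G / C(K))` moves a chief factor below `K`. -/
theorem exists_moved_factor {a : G} : ∀ (n : ℕ) (K : Subgroup G) [K.Normal], Nat.card K = n →
    IsPGroup p K → a ∉ coreMod p K →
    ∃ X Y : Subgroup G, ∃ (_ : X.Normal) (_ : Y.Normal),
      IsChiefFactor X Y ∧ X ≤ K ∧ a ∉ factorCent X Y := by
  intro n
  induction n using Nat.strong_induction_on with
  | _ n ih =>
  intro K _ hn hK ha
  subst hn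
  have hKne : K ≠ ⊥ := by
    rintro rfl
    refine ha (le_coreMod (K := (⊥ : Subgroup G)) ⊤ (fun g _ => ⟨0, fun w hw => ?_⟩) (mem_top a))
    rw [SetLike.mem_coe, mem_bot] at hw
    simp [hw]
  obtain ⟨Y, ⟨hYn, hYK⟩, hmax⟩ := Set.Finite.exists_maximal
    (s := {Y : Subgroup G | Y.Normal ∧ Y < K}) (Set.toFinite _)
    ⟨⊥, inferInstance, bot_lt_iff_ne_bot.mpr hKne⟩
  have hchief : IsChiefFactor K Y := ⟨hYK, inferInstance, hYn, fun N hN h1 h2 => by
    rcases h2.eq_or_lt with h | h
    · exact Or.inr h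
    · exact Or.inl (le_antisymm (hmax ⟨hN, h⟩ h1) h1)⟩
  by_cases hc : a ∈ factorCent K Y
  · by_cases hy : a ∈ coreMod p Y
    · exfalso
      refine ha (le_coreMod (factorCent K Y ⊓ coreMod p Y) (fun g hg => ?_) ⟨hc, hy⟩)
      obtain ⟨j, m, hm, hj⟩ := Nat.exists_eq_pow_mul_and_not_dvd (orderOf_pos g).ne' p
        (Fact.out : p.Prime).ne_one
      refine ⟨j, ?_⟩
      set e := g ^ p ^ j with he
      have hem : e ^ m = 1 := by rw [he, ← pow_mul, ← hj, pow_orderOf_eq_one]
      have hco : ∀ k : ℕ, (p ^ k).Coprime m := fun k =>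
        Nat.Coprime.pow_left _ ((Fact.out : p.Prime).coprime_iff_not_dvd.mpr hm)
      have heY : e ∈ centralizer (Y : Set G) := by
        obtain ⟨k, hk⟩ := exists_pow_mem_of_mem_coreMod (pow_mem hg.2 (p ^ j))
        obtain ⟨u, v, huv⟩ : ∃ u v : ℤ, (p ^ k : ℤ) * u + (m : ℤ) * v = 1 := by
          obtain ⟨u, v, h⟩ := (Int.isCoprime_iff_gcd_eq_one (m := ((p ^ k : ℕ) : ℤ)) (n := (m : ℤ))).mpr
            (by rw [Int.gcd_natCast_natCast]; exact hco k)
          exact ⟨u, v, by push_cast at h; linear_combination h⟩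
        have : e = (e ^ p ^ k) ^ u * (e ^ m) ^ v := by
          rw [← zpow_natCast e (p ^ k), ← zpow_natCast e m, ← zpow_mul, ← zpow_mul, ← zpow_add]
          push_cast
          rw [huv, zpow_one]
        rw [this, hem, one_zpow, mul_one]
        exact zpow_mem hk _
      intro w hw
      have heK := mem_factorCent.mp (pow_mem hg.1 (p ^ j)) w hw
      rw [← he] at heK
      set d := ⁅e, w⁆ with hd
      have hde : e * d = d * e := (mem_centralizer_iff.mp heY d heK).symm
      have hstep : ∀ i : ℕ, e ^ i * w * (e ^ i)⁻¹ = d ^ i * w := by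
        intro i
        induction i with
        | zero => simp
        | succ i ihi =>
          have hew : e * w * e⁻¹ = d * w := by rw [hd, commutatorElement_def]; group
          have hdi : e * d ^ i * e⁻¹ = d ^ i := by
            rw [(Commute.pow_right (show Commute e d from hde) i).eq, mul_inv_cancel_right]
          calc e ^ (i + 1) * w * (e ^ (i + 1))⁻¹
              = e * (e ^ i * w * (e ^ i)⁻¹) * e⁻¹ := by rw [pow_succ']; group
            _ = e * d ^ i * e⁻¹ * (e * w * e⁻¹) := by rw [ihi]; group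
            _ = d ^ (i + 1) * w := by rw [hdi, hew, pow_succ, mul_assoc]
      have hdm : d ^ m = 1 := by
        have := hstep m
        rw [hem, one_mul, inv_one, mul_one] at this
        exact mul_eq_right.mp this.symm
      obtain ⟨k, hk⟩ := exists_pow_prime_pow hK (hYK.le heK)
      have hd1 : d = 1 := orderOf_eq_one_iff.mp (Nat.eq_one_of_dvd_coprimes (hco k)
        (orderOf_dvd_of_pow_eq_one hk) (orderOf_dvd_of_pow_eq_one hdm))
      exact (commutatorElement_eq_one_iff_commute.mp hd1).eq.symm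
    · obtain ⟨X', Y', hX', hY', hc', hle, hmov⟩ := ih (Nat.card Y)
        (Set.ncard_lt_ncard (SetLike.coe_ssubset_coe.mpr hYK) (Set.toFinite _))
        Y rfl (hK.to_le hYK.le) hy
      exact ⟨X', Y', hX', hY', hc', hle.trans hYK.le, hmov⟩
  · exact ⟨K, Y, inferInstance, hYn, hchief, le_rfl, hc⟩

/-- An element quadratic on a chief factor and moving it commutes modulo the centralizer of the
factor with some two-element that moves the factor. -/
theorem exists_two_element (hp : p ≠ 2) {X Y : Subgroup G} [X.Normal] [Y.Normal]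
    (hXY : IsChiefFactor X Y) (hX : IsPGroup p X) {a : G}
    (hq : ∀ x ∈ X, ⁅⁅x, a⁆, a⁆ ∈ Y) (ha : a ∉ factorCent X Y) :
    ∃ t : G, (∃ k : ℕ, t ^ 2 ^ k = 1) ∧ t ∉ factorCent X Y ∧ ⁅t, a⁆ ∈ factorCent X Y := by
  set π := QuotientGroup.mk' Y with hπ
  set V := X.map π with hV
  haveI : V.Normal := Subgroup.Normal.map inferInstance _ (QuotientGroup.mk'_surjective Y)
  have hVe : IsElementaryAbelian p V := isElementaryAbelian_factor hXY hX
  haveI := hVe.1
  have hVN : normalizer (V : Set (G ⧸ Y)) = ⊤ := normalizer_eq_top V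
  set C := factorCent X Y with hC
  set σ := QuotientGroup.mk' C with hσ
  -- some conjugate of `a` generates with it a non-`p`-group modulo `C`
  obtain ⟨y, hy⟩ : ∃ y : G, ¬ ∀ g ∈ Subgroup.closure ({a, y * a * y⁻¹} : Set G),
      ∃ k : ℕ, g ^ p ^ k ∈ C := by
    by_contra hall
    push Not at hall
    obtain ⟨N, hNn, hNp, haN⟩ := CfsgLib.Small.baerSuzuki_elem (p := p) (σ a) (fun q => by
      obtain ⟨y, rfl⟩ := QuotientGroup.mk'_surjective C q
      rw [← map_inv, ← map_mul, ← map_mul, ← Set.image_pair, ← MonoidHom.map_closure]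
      rintro ⟨_, g, hg, rfl⟩
      obtain ⟨k, hk⟩ := hall y g hg
      exact ⟨k, Subtype.ext (by
        rw [SubmonoidClass.coe_pow, OneMemClass.coe_one, ← map_pow]
        exact (QuotientGroup.eq_one_iff _).mpr hk)⟩)
    haveI := hNn
    refine ha (le_factorCent_of_forall_pow hXY hX (N.comap σ) (fun g hg => ?_) haN)
    obtain ⟨k, hk⟩ := exists_pow_prime_pow hNp hg
    exact ⟨k, (QuotientGroup.eq_one_iff _).mp (by rwa [← map_pow] at hk)⟩
  push Not at hy
  obtain ⟨g₀, hg₀, hg₀C⟩ := hy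
  set b := y * a * y⁻¹ with hb
  set X₀ := Subgroup.closure ({a, b} : Set G) with hX₀
  let f : X₀ →* ↥(normalizer (V : Set (G ⧸ Y))) :=
    (π.comp X₀.subtype).codRestrict _ (fun g => by rw [hVN]; exact mem_top _)
  let ρ : X₀ →* AddMonoid.End (Additive V) := (PLocal.normEnd V).comp f
  have hker : ∀ g : X₀, ρ g = 1 ↔ (g : G) ∈ C := fun g => by
    show PLocal.normEnd V (f g) = 1 ↔ _
    rw [PLocal.normEnd_eq_one_iff]
    rfl
  have hqb : ∀ x ∈ X, ⁅⁅x, b⁆, b⁆ ∈ Y := by
    intro x hx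
    have hx' : y⁻¹ * x * y⁻¹⁻¹ ∈ X := Subgroup.Normal.conj_mem ‹_› _ hx y⁻¹
    have := Subgroup.Normal.conj_mem ‹Y.Normal› _ (hq _ hx') y
    convert this using 1
    simp only [hb, commutatorElement_def]
    group
  have hquad : ∀ c : G, (∀ x ∈ X, ⁅⁅x, c⁆, c⁆ ∈ Y) →
      ⁅⁅V, Subgroup.zpowers (π c)⁆, Subgroup.zpowers (π c)⁆ = ⊥ := fun c hc => by
    refine (PLocal.quadratic_iff (by rw [hVN]; exact mem_top _)).mpr ?_
    rintro _ ⟨x, hx, rfl⟩
    refine commutatorElement_eq_one_iff_commute.mp ?_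
    rw [← map_commutatorElement, ← map_commutatorElement]
    exact (QuotientGroup.eq_one_iff _).mpr (hc x hx)
  let a' : X₀ := ⟨a, subset_closure (Or.inl rfl)⟩
  let b' : X₀ := ⟨b, subset_closure (Or.inr rfl)⟩
  have hgen : Subgroup.closure ({a', b'} : Set X₀) = ⊤ := by
    apply map_injective X₀.subtype_injective
    rw [MonoidHom.map_closure, ← MonoidHom.range_eq_map, range_subtype]
    simp [hX₀, a', b', Set.image_insert_eq, Set.image_singleton]
  have hexp : ∀ v : Additive V, p • v = 0 := fun v =>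
    Additive.toMul.injective (show v.toMul ^ p = 1 from Subtype.ext (by simpa using hVe.2 _ v.toMul.2))
  have ha' : (ρ a' - 1) * (ρ a' - 1) = 0 := PLocal.normEnd_sub_one_sq V (g := f a') (hquad a hq)
  have hb' : (ρ b' - 1) * (ρ b' - 1) = 0 := PLocal.normEnd_sub_one_sq V (g := f b') (hquad b hqb)
  obtain ⟨t, ⟨k, hk⟩, ht1, ht2⟩ := exists_involution_mod_ker hp hexp ρ hgen ha' hb'
    ⟨⟨g₀, hg₀⟩, fun k h => hg₀C k (by simpa using (hker _).mp h)⟩
  have hcomm := commute_of_quadratic_pair (fun r hr => by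
    refine AddMonoidHom.ext fun v => ?_
    have h2 : r v + r v = 0 := DFunLike.congr_fun hr v
    have hodd : Odd p := (Fact.out : p.Prime).odd_of_ne_two hp
    obtain ⟨j, hj⟩ := hodd
    have h3 : p • r v = 0 := hexp _
    rw [hj, add_nsmul, one_nsmul, mul_comm, mul_nsmul, two_nsmul, ← nsmul_add] at h3
    rw [h2, nsmul_zero, zero_add] at h3
    exact h3) ρ hgen ha' hb' ht2
  refine ⟨t, ⟨k, by simpa using congrArg Subtype.val hk⟩, fun h => ht1 ((hker t).mpr h), ?_⟩
  have h1 : ρ ⁅t, a'⁆ = 1 := by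
    rw [commutatorElement_def, map_mul, map_mul, map_mul, hcomm.eq, mul_assoc (ρ a') (ρ t),
      ← map_mul ρ t, mul_inv_cancel, map_one, mul_one, ← map_mul, mul_inv_cancel, map_one]
  have := (hker _).mp h1
  simpa [a', commutatorElement_def] using this

end CfsgLib.ZJInversion
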